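import Cfsg.Agent.ChevGroup.Mat.Rels
import Cfsg.Agent.ChevGroup.Simple

/-!
The order of `U`, generation by `B` and the `n i`, and the orders along the parabolic chain, from the
Boolean certificates of a table.
-/

set_option autoImplicit false

namespace Cfsg.Agent.ChevGroup

open Cfsg.Lie

namespace RootRel

variable {Φ I : Type*} {G : Type*} [Group G] {F : Type*} [Field F] {S : RootIdx Φ I} (R : RootRel G F S)

lemma par_all {J : List I} (hJ : ∀ i, i ∈ J) : R.par J = R.B ⊔ Subgroup.closure (Set.range R.n) := by
  have : R.n '' {j | j ∈ J} = Set.range R.n := by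
    ext; simp [hJ]
  rw [par, this]

/-- If every root is the image of a fundamental one, the root elements lie in `⟨B, n i⟩`. -/
lemma x_mem_gen (hwit : ∀ r, ∃ w j, S.actw w (S.simple j) = r) (r : Φ) (t : F) :
    R.x r t ∈ R.B ⊔ Subgroup.closure (Set.range R.n) := by
  obtain ⟨w, j, rfl⟩ := hwit r
  obtain ⟨e, he, h⟩ := R.nw_conj w (S.simple j)
  have hw : R.nw w ∈ R.B ⊔ Subgroup.closure (Set.range R.n) := by
    induction w with
    | nil => exact one_mem _
    | cons i w _ =>
      refine (Subgroup.closure_le _).2 ?_ (show R.nw (i :: w) ∈ Subgroup.closure (Set.range R.n) from ?_)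
      · exact fun x hx => (le_sup_right (a := R.B) : _ ≤ R.B ⊔ Subgroup.closure (Set.range R.n))
          (Subgroup.subset_closure hx)
      · refine Subgroup.list_prod_mem _ fun x hx => ?_
        obtain ⟨k, -, rfl⟩ := List.mem_map.1 hx
        exact Subgroup.subset_closure ⟨k, rfl⟩
  have h1 := h (e * t)
  rw [← mul_assoc, he, one_mul] at h1
  rw [← h1]
  exact mul_mem (mul_mem hw ((le_sup_left (b := Subgroup.closure (Set.range R.n)) : R.B ≤ _)
    (R.x_mem_B (S.simple_pos j) _))) (inv_mem hw)

end RootRel

namespace Model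

variable {D : ChevalleyDatum} (T : Model D)

/-- Every root is listed as the image of a fundamental one. -/
def witB (wit : List (List (Fin T.tab.l) × Fin T.tab.l)) : Bool :=
  decide (wit.map (fun p => (T.S.actw p.1 (T.S.simple p.2)).val) = List.range T.tab.n)

/-- A reduced word sending all positive roots to negative ones. -/
def longestB (w : List (Fin T.tab.l)) : Bool :=
  (List.range w.length).all (fun k => match w.drop k with
    | [] => true
    | i :: u => decide (T.S.pos (T.S.actw u.reverse (T.S.simple i)))) &&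
  (List.finRange T.tab.n).all (fun r => decide (2 * r.val < T.tab.n) ||
    decide (T.S.pos (T.S.neg (T.S.actw w.reverse r))))

/-- The positive roots. -/
def posList : List (Fin T.tab.n) := (List.finRange T.tab.n).filter fun r => decide (T.tab.n ≤ 2 * r.val)

/-- All checks on one step of the chain. -/
def stepB (d : Tab.StepData) (span : List (Fin T.tab.n)) : Bool :=
  Mat.spanB D (span.map Fin.val) &&
  ((T.tab.step d).J.all fun j => span.all fun s => decide (T.S.refl j s ∈ span))

variable {F : Type*} [Field F] (K : Rels D F)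

lemma witness {wit : List (List (Fin T.tab.l) × Fin T.tab.l)} (h : T.witB wit = true)
    (r : Fin T.tab.n) : ∃ w j, T.S.actw w (T.S.simple j) = r := by
  rw [witB, decide_eq_true_eq] at h
  have hr : r.val ∈ wit.map (fun p => (T.S.actw p.1 (T.S.simple p.2)).val) := by
    rw [h]; exact List.mem_range.2 r.isLt
  obtain ⟨p, -, hp⟩ := List.mem_map.1 hr
  exact ⟨p.1, p.2, Fin.ext hp⟩

include T K in
lemma group_top {wit : List (List (Fin T.tab.l) × Fin T.tab.l)} (hwit : T.witB wit = true) :
    (T.rel K).B ⊔ Subgroup.closure (Set.range (T.rel K).n) = ⊤ := by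
  rw [eq_top_iff]
  rintro ⟨g, hg⟩ -
  have hle : D.group F ≤ ((T.rel K).B ⊔ Subgroup.closure (Set.range (T.rel K).n)).map (D.group F).subtype := by
    refine (Subgroup.closure_le _).2 ?_
    rintro y ⟨r, t, hy⟩
    let r' : Fin T.tab.n := ⟨r.val, T.n_eq.symm ▸ r.isLt⟩
    refine ⟨(T.rel K).x r' t, (T.rel K).x_mem_gen (T.witness hwit) r' t, Units.ext ?_⟩
    rw [hy]
    show D.x F r.val t = _
    rw [ChevalleyDatum.x, dif_pos r.isLt]
  obtain ⟨g', hg', he⟩ := hle hg
  have : g' = ⟨g, hg⟩ := Subtype.ext he
  rwa [← this]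

lemma pres_posList (hpos : Mat.spanB D (T.posList.map Fin.val) = true) (r : Fin T.tab.n) (t : F)
    (hr : T.S.pos r) : (T.shapeR K).Pres T.S.pos ((T.rel K).x r t) := by
  intro s hs a ha
  refine T.pres_of_spanB K hpos r t hr s ?_ a fun u hu => ha u ?_
  · exact List.mem_filter.2 ⟨List.mem_finRange _, decide_eq_true hs⟩
  · have := (List.mem_filter.1 hu).2
    simp only [decide_eq_true_eq] at this
    exact this

lemma longest_neg {w : List (Fin T.tab.l)} (h : T.longestB w = true) (r : Fin T.tab.n)
    (hr : T.S.pos r) : T.S.pos (T.S.neg (T.S.actw w.reverse r)) := by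
  simp only [longestB, Bool.and_eq_true, List.all_eq_true, Bool.or_eq_true, decide_eq_true_eq] at h
  refine (h.2 r (List.mem_finRange r)).resolve_left ?_
  have : T.tab.n ≤ 2 * r.val := hr
  omega

include T K in
/-- `|U| = q ^ N`. -/
theorem card_posUnipotent [Finite F] {w : List (Fin T.tab.l)} (hw : T.longestB w = true)
    (hpos : Mat.spanB D (T.posList.map Fin.val) = true) :
    Nat.card ↥(D.posUnipotent F) = Nat.card F ^ w.length := by
  rw [T.card_U_eq K]
  refine (T.shapeR K).card_U (fun r t hr => T.pres_posList K hpos r t hr) w ?_ (fun r hr => T.longest_neg hw r hr)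
  intro v i u he
  simp only [longestB, Bool.and_eq_true, List.all_eq_true, List.mem_range] at hw
  have := hw.1 v.length (by rw [he]; simp)
  rw [he, List.drop_left] at this
  simpa using this

include T K in
/-- `|B| = |U| |H|`. -/
theorem card_B_eq : Nat.card ↥(T.rel K).B =
    Nat.card ↥(D.posUnipotent F) * Nat.card ↥(D.diagonalSubgroup F) := by
  rw [(T.shapeR K).card_B, T.card_U_eq K, T.card_H_eq K]

/-- One step of the chain. -/
theorem card_step [Finite F] (d : Tab.StepData) (span : List (Fin T.tab.n))
    (hv : (T.tab.step d).validB T.S = true) (hs : T.stepB d span = true)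
    (hm : ((List.range (T.tab.step d).m).map fun c =>
      Step.maskOf T.S span ((T.tab.step d).word c)).Nodup) :
    Nat.card ↥((T.rel K).par (T.tab.step d).K) = Nat.card ↥((T.rel K).par (T.tab.step d).J) *
      ∑ c : Fin (T.tab.step d).m, Nat.card F ^ ((T.tab.step d).word c).length := by
  set C := T.tab.step d
  have hC := C.valid_of_validB T.S hv
  simp only [stepB, Bool.and_eq_true, List.all_eq_true, decide_eq_true_eq] at hs
  have hdisj : ∀ a b, a < C.m → b < C.m →
      cell (T.rel K).B ((T.rel K).par C.J) ((T.rel K).nw (C.word a)) =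
        cell (T.rel K).B ((T.rel K).par C.J) ((T.rel K).nw (C.word b)) → a = b := by
    intro a b ha hb he
    have hP : ∀ p ∈ (T.rel K).par C.J, (T.shapeR K).Pres (fun s => s ∈ span) p := fun p hp =>
      (T.shapeR K).pres_par (fun r t hr => T.pres_of_spanB K hs.1 r t hr)
        (fun j hj r hr => hs.2 j hj r hr) hp
    have h1 := (T.shapeR K).image_of_cell_eq hP he
    have h2 := (T.shapeR K).image_of_cell_eq hP he.symm
    have hmask : Step.maskOf T.S span (C.word a) = Step.maskOf T.S span (C.word b) := by
      refine Nat.eq_of_testBit_eq fun k => Bool.eq_iff_iff.2 ?_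
      rw [Step.testBit_maskOf, Step.testBit_maskOf]
      constructor
      · rintro ⟨r, hr, e⟩
        obtain ⟨s, hs, e'⟩ := h1 r hr
        exact ⟨s, hs, by rw [← e']; exact e⟩
      · rintro ⟨r, hr, e⟩
        obtain ⟨s, hs, e'⟩ := h2 r hr
        exact ⟨s, hs, by rw [← e']; exact e⟩
    exact (List.nodup_iff_injective_getElem.1 hm (a₁ := ⟨a, by simpa using ha⟩) (a₂ := ⟨b, by simpa using hb⟩)
      (by simpa using hmask)) |> congrArg Fin.val
  rw [← RootRel.relIndex_par hC hdisj]
  have hle : (T.rel K).par C.J ≤ (T.rel K).par C.K := (T.rel K).par_mono hC.2.2.1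
  rw [← Nat.card_congr (Subgroup.subgroupOfEquivOfLe hle).toEquiv, Subgroup.relIndex, Subgroup.card_mul_index]

end Model

end Cfsg.Agent.ChevGroup
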