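import Cfsg.Agent.ChevGroup.Mat.Chain

/-!
The order of the diagonal subgroup `H`: it is the image of the torus `(Fˣ)^l`, and the kernel is read off
from a diagonal form of the Cartan matrix.
-/

set_option autoImplicit false

namespace Cfsg.Agent.ChevGroup

open Cfsg.Lie

namespace Torus

variable {M : Type*} [CommGroup M] {l : ℕ}

/-- An integer matrix acting on `M ^ l`: `(c * A)_j = ∏ i, c_i ^ A i j`. -/
def mact (A : Matrix (Fin l) (Fin l) ℤ) : (Fin l → M) →* (Fin l → M) where
  toFun c j := ∏ i, c i ^ A i j
  map_one' := by ext; simp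
  map_mul' c d := by ext; simp [mul_zpow, Finset.prod_mul_distrib]

lemma mact_mul (A B : Matrix (Fin l) (Fin l) ℤ) (c : Fin l → M) :
    mact (A * B) c = mact B (mact A c) := by
  ext k
  simp only [mact, MonoidHom.coe_mk, OneHom.coe_mk, Matrix.mul_apply]
  have hp : ∀ j, (∏ i, c i ^ A i j) ^ B j k = ∏ i, c i ^ (A i j * B j k) := fun j => by
    rw [← Finset.prod_zpow]; simp only [← zpow_mul]
  have hs : ∀ i, c i ^ (∑ j, A i j * B j k) = ∏ j, c i ^ (A i j * B j k) := fun i => by
    induction (Finset.univ : Finset (Fin l)) using Finset.induction with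
    | empty => simp
    | insert a s ha ih => rw [Finset.sum_insert ha, Finset.prod_insert ha, zpow_add, ih]
  simp only [hp, hs]
  rw [Finset.prod_comm]

lemma mact_one (c : Fin l → M) : mact (1 : Matrix (Fin l) (Fin l) ℤ) c = c := by
  ext k
  simp only [mact, MonoidHom.coe_mk, OneHom.coe_mk]
  rw [Finset.prod_eq_single k] <;> simp +contextual

lemma mact_inj {A B : Matrix (Fin l) (Fin l) ℤ} (h : A * B = 1) :
    Function.Injective (mact (M := M) A) := fun c d e => by
  have := congrArg (mact B) e
  rwa [← mact_mul, ← mact_mul, h, mact_one, mact_one] at this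

/-- The kernel of a matrix with a diagonal form on a finite cyclic group. -/
theorem card_ker [IsCyclic M] [Finite M] (A U U' V V' : Matrix (Fin l) (Fin l) ℤ) (d : Fin l → ℕ)
    (hU : U * U' = 1) (hU' : U' * U = 1) (hV : V * V' = 1)
    (hd : U * A * V = Matrix.diagonal fun i => (d i : ℤ)) :
    Nat.card (mact (M := M) A).ker = ∏ i, Nat.gcd (Nat.card M) (d i) := by
  have h1 : ∀ c, mact (M := M) A (mact U c) = 1 ↔
      mact (M := M) (Matrix.diagonal fun i => (d i : ℤ)) c = 1 := by
    intro c
    rw [← hd, mact_mul, mact_mul]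
    exact ⟨fun h => by rw [h, map_one], fun h => mact_inj hV (h.trans (map_one _).symm)⟩
  have hdiag : ∀ c : Fin l → M, mact (Matrix.diagonal fun i => (d i : ℤ)) c = fun i => c i ^ d i := by
    intro c
    ext k
    simp only [mact, MonoidHom.coe_mk, OneHom.coe_mk]
    rw [Finset.prod_eq_single k] <;> simp +contextual
  let e : (∀ i, (powMonoidHom (d i) : M →* M).ker) ≃ (mact (M := M) A).ker :=
    { toFun := fun c => ⟨mact U fun i => (c i).1, MonoidHom.mem_ker.2 ((h1 _).2 (by
        rw [hdiag]; ext i; exact MonoidHom.mem_ker.1 (c i).2))⟩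
      invFun := fun c i => ⟨mact U' c.1 i, by
        rw [MonoidHom.mem_ker, powMonoidHom_apply]
        have := (h1 (mact U' c.1)).1 (by
          rw [← mact_mul U' U, hU', mact_one]; exact MonoidHom.mem_ker.1 c.2)
        rw [hdiag] at this
        exact congrFun this i⟩
      left_inv := fun c => funext fun i => Subtype.ext (by
        show mact U' (mact U fun i => (c i).1) i = _
        rw [← mact_mul, hU, mact_one])
      right_inv := fun c => Subtype.ext (by
        show mact U (mact U' c.1) = _
        rw [← mact_mul, hU', mact_one]) }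
  rw [← Nat.card_congr e, Nat.card_pi]
  exact Finset.prod_congr rfl fun i _ => IsCyclic.card_powMonoidHom_ker M (d i)

end Torus

/-- The linearity facts about the Cartan integers that the torus needs. -/
structure TorusFacts (D : ChevalleyDatum) : Prop where
  pairing_simple : ∀ i s, i < D.rank → D.pairing (D.simple i) s = D.cartan i s
  cartan_refl : ∀ i j s, i < D.rank → j < D.rank → s < D.nroots →
    D.cartan j (D.reflectRoot i s) = D.cartan j s - D.cartan i s * D.cartan j (D.simple i)

namespace Model

variable {D : ChevalleyDatum} (T : Model D) {F : Type*} [Field F] (K : Rels D F)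

/-- The Cartan matrix of the datum. -/
def cartanMat (D : ChevalleyDatum) : Matrix (Fin D.rank) (Fin D.rank) ℤ :=
  Matrix.of fun i j => D.cartan i.val (D.simple j.val)

/-- The character of a torus element at a root. -/
def chi (D : ChevalleyDatum) (c : Fin D.rank → Fˣ) (s : ℕ) : Fˣ := ∏ i, c i ^ D.cartan i.val s

/-- The torus as a homomorphism to diagonal matrices. -/
def torusHom (D : ChevalleyDatum) : (Fin D.rank → Fˣ) →* GL D.Idx F where
  toFun c :=
    ⟨Matrix.diagonal (Sum.elim (fun _ => (1 : F)) fun s : Fin D.nroots => (chi D c s.val : F)),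
      Matrix.diagonal (Sum.elim (fun _ => (1 : F)) fun s : Fin D.nroots => ((chi D c s.val)⁻¹ : Fˣ)),
      by rw [Matrix.diagonal_mul_diagonal, ← Matrix.diagonal_one]; congr 1; funext a; cases a <;> simp,
      by rw [Matrix.diagonal_mul_diagonal, ← Matrix.diagonal_one]; congr 1; funext a; cases a <;> simp⟩
  map_one' := by
    ext1
    simp only [chi, Pi.one_apply, one_zpow, Finset.prod_const_one, Units.val_one]
    rw [← Matrix.diagonal_one]; congr 1; funext a; cases a <;> simp
  map_mul' c d := by
    ext1
    simp only [Units.val_mul, Matrix.diagonal_mul_diagonal]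
    congr 1; funext a
    cases a <;> simp [chi, mul_zpow, Finset.prod_mul_distrib]

include T in
lemma diagonalSubgroup_eq (hA : TorusFacts D) (K : Rels D F) :
    D.diagonalSubgroup F = (torusHom (F := F) D).range := by
  have hsimple : ∀ i : Fin D.rank, D.simple i.val < D.nroots := by
    intro i
    let i' : Fin T.tab.l := ⟨i.val, T.l_eq.symm ▸ i.isLt⟩
    have := T.simple_eq i'
    rw [show D.simple i.val = D.simple i'.val from rfl, ← this]
    exact T.lt _
  apply le_antisymm
  · refine (Subgroup.closure_le _).2 ?_
    rintro g ⟨r, t, hr, ht, hg⟩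
    refine ⟨fun i => Units.mk0 t ht ^ (D.coroot.getD r #[]).getD i.val 0, Units.ext ?_⟩
    rw [hg, K.h_diag r hr t ht]
    simp only [torusHom, MonoidHom.coe_mk, OneHom.coe_mk]
    congr 1; funext a
    rcases a with i | s
    · rfl
    · simp only [Sum.elim_inr, chi, ← zpow_mul]
      rw [show D.pairing r s.val = ∑ i : Fin D.rank, (D.coroot.getD r #[]).getD i.val 0 * D.cartan i.val s.val from ?_]
      · generalize (Finset.univ : Finset (Fin D.rank)) = S
        induction S using Finset.induction with
        | empty => simp
        | insert a S ha ih =>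
          rw [Finset.prod_insert ha, Finset.sum_insert ha, zpow_add₀ ht, Units.val_mul, ih,
            Units.val_zpow_eq_zpow_val, Units.val_mk0]
      · rw [ChevalleyDatum.pairing, Fin.sum_univ_eq_sum_range
          (fun i => (D.coroot.getD r #[]).getD i 0 * D.cartan i s.val)]
        rw [Finset.sum_eq_multiset_sum]
        simp [Multiset.range]
  · rintro g ⟨c, rfl⟩
    suffices h : c ∈ (D.diagonalSubgroup F).comap (torusHom D) from h
    rw [← Finset.univ_prod_mulSingle c]
    refine Subgroup.prod_mem _ fun i _ => Subgroup.mem_comap.2 (Subgroup.subset_closure ?_)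
    refine ⟨D.simple i.val, (c i : F), hsimple i, Units.ne_zero _, ?_⟩
    rw [K.h_diag _ (hsimple i) _ (Units.ne_zero _)]
    simp only [torusHom, MonoidHom.coe_mk, OneHom.coe_mk]
    congr 1; funext a
    rcases a with j | s
    · rfl
    · simp only [Sum.elim_inr, chi]
      rw [Finset.prod_eq_single i (fun j _ hj => by rw [Pi.mulSingle_eq_of_ne hj]; simp) (by simp),
        Pi.mulSingle_eq_same, Units.val_zpow_eq_zpow_val]
      congr 1
      exact (hA.pairing_simple _ _ i.isLt).symm

include T in
/-- `|H| · ∏ gcd(q - 1, d_i) = (q - 1) ^ l` for a diagonal form `d` of the Cartan matrix. -/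
theorem card_H [Fintype F] (hA : TorusFacts D) (K : Rels D F)
    {wit : List (List (Fin T.tab.l) × Fin T.tab.l)} (hwit : T.witB wit = true)
    (U U' V V' : Matrix (Fin D.rank) (Fin D.rank) ℤ) (d : Fin D.rank → ℕ)
    (hU : U * U' = 1) (hU' : U' * U = 1) (hV : V * V' = 1)
    (hd : U * cartanMat D * V = Matrix.diagonal fun i => (d i : ℤ)) :
    Nat.card ↥(D.diagonalSubgroup F) * (∏ i, Nat.gcd (Fintype.card F - 1) (d i)) =
      (Fintype.card F - 1) ^ D.rank := by
  classical
  have hM : Nat.card Fˣ = Fintype.card F - 1 := by rw [Nat.card_units, Nat.card_eq_fintype_card]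
  have hker : (torusHom (F := F) D).ker = (Torus.mact (M := Fˣ) (cartanMat D)).ker := by
    ext c
    simp only [MonoidHom.mem_ker]
    constructor
    · intro h
      ext j
      let j' : Fin T.tab.l := ⟨j.val, T.l_eq.symm ▸ j.isLt⟩
      have hs : D.simple j.val < D.nroots := by
        rw [show D.simple j.val = D.simple j'.val from rfl, ← T.simple_eq j']; exact T.lt _
      have h2 := congrArg (fun g : GL D.Idx F =>
        (g : Matrix D.Idx D.Idx F) (Sum.inr ⟨_, hs⟩) (Sum.inr ⟨_, hs⟩)) h
      simp only [torusHom, MonoidHom.coe_mk, OneHom.coe_mk, Matrix.diagonal_apply_eq, Sum.elim_inr,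
        Units.val_one, Matrix.one_apply_eq] at h2
      simpa [Torus.mact, cartanMat, chi] using h2
    · intro h
      have hr : ∀ (w : List (Fin T.tab.l)) (j : Fin T.tab.l),
          chi D c (T.S.actw w (T.S.simple j)).val = 1 := by
        intro w j
        induction w with
        | nil =>
          rw [RootIdx.actw_nil, T.simple_eq]
          exact congrFun h ⟨j.val, T.lt_l j⟩
        | cons k w ih =>
          rw [RootIdx.actw_cons]
          set r := T.S.actw w (T.S.simple j)
          have e : ∀ i : Fin D.rank, c i ^ D.cartan i.val (T.S.refl k r).val =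
              c i ^ D.cartan i.val r.val * ((c i ^ D.cartan i.val (D.simple k.val)) ^ D.cartan k.val r.val)⁻¹ := by
            intro i
            rw [T.refl_eq, hA.cartan_refl _ _ _ (T.lt_l k) i.isLt (T.lt r), zpow_sub, ← zpow_mul,
              mul_comm (D.cartan k.val r.val)]
          unfold chi
          rw [Finset.prod_congr rfl fun i _ => e i, Finset.prod_mul_distrib, Finset.prod_inv_distrib,
            Finset.prod_zpow]
          rw [show ∏ i, c i ^ D.cartan i.val r.val = 1 from ih,
            show ∏ i, c i ^ D.cartan i.val (D.simple k.val) = 1 from congrFun h ⟨k.val, T.lt_l k⟩]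
          simp
      ext1
      simp only [torusHom, MonoidHom.coe_mk, OneHom.coe_mk, Units.val_one]
      rw [← Matrix.diagonal_one]; congr 1; funext a
      rcases a with i | s
      · rfl
      · obtain ⟨w, j, e⟩ := T.witness hwit ⟨s.val, T.n_eq.symm ▸ s.isLt⟩
        have := hr w j
        rw [e] at this
        simp [this]
  rw [T.diagonalSubgroup_eq hA K, ← hM, ← Torus.card_ker (cartanMat D) U U' V V' d hU hU' hV hd, ← hker,
    mul_comm, ← Subgroup.index_ker, Subgroup.card_mul_index, Nat.card_pi, Finset.prod_const, Finset.card_univ,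
    Fintype.card_fin]

end Model

end Cfsg.Agent.ChevGroup
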