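import Cfsg.Agent.Lib.ChevCore.CommGroup
import Cfsg.Agent.Lib.ChevCore.Torus
import Cfsg.Agent.ChevGroup.Mat.Torus

/-!
The relations `Rels` of a datum from the facts of `ChevCore`.
-/

set_option autoImplicit false

namespace Cfsg.Agent.ChevGroup

open Cfsg.Lie

/-- The linearity facts from the certificates of `ChevCore`. -/
theorem torusFacts_of_good {D : ChevalleyDatum} (hD : ChevCore.Good D) : TorusFacts D where
  pairing_simple i s hi := hD.pairing_simple hi s
  cartan_refl i j s hi hj hs := hD.cartan_refl hi hs hj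

/-- A datum satisfying the certificates of `ChevCore` has the relations needed by the engine. -/
noncomputable def relsOfCommGood {D : ChevalleyDatum} (hD : ChevCore.CommGood D) (F : Type*) [Field F] :
    Rels D F where
  x_zero r _ := hD.toGood.x_zero' r
  x_add r _ t u := (hD.toGood.x_mul r t u).symm
  h_diag r hr c hc := by
    rw [hD.toGood.hMat_eq hr hc]
    congr 1
    funext a
    rcases a with i | s <;> simp [ChevCore.hDiag, ChevCore.wp]
  h_conj r s hr hs c t hc := by
    have h := congrArg (fun g : GL D.Idx F => (g : Matrix D.Idx D.Idx F))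
      (mul_inv_eq_iff_eq_mul.1 (hD.toGood.hg_conj_x hr hs hc t))
    simpa [hD.toGood.val_hg, hD.toGood.val_xg] using h
  eta i s := (ChevCore.eta D i s : F)
  eta_sq i s _ _ := by rw [← Int.cast_mul, ChevCore.eta_mul_self, Int.cast_one]
  eta_neg i s hi hs := by rw [hD.toGood.eta_neg hi hs]
  n_conj i s hi hs t := by
    have h := congrArg (fun g : GL D.Idx F => (g : Matrix D.Idx D.Idx F))
      (mul_inv_eq_iff_eq_mul.1 (hD.toGood.ng_conj_x (F := F) hi hs t))
    simpa [hD.toGood.val_ng, hD.toGood.val_xg] using h
  n_mono i s a hi ha := by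
    rw [← hD.toGood.val_ng, hD.toGood.val_ng_simple' hi]
    by_contra h
    rcases ChevCore.monoMat_supp h with ⟨j, k, -, hk⟩ | ⟨s', u, rfl, hs', hu⟩
    · cases hk
    · cases hs'
      exact ha u hu rfl
  comm i s hi hs hne t u := by
    have hG := hD.toGood
    have hp : D.simple i < D.nroots := hG.simple_lt hi
    have hps : 0 < ChevCore.ht D s := (hG.isPosRoot_iff hs.1).1 hs
    have hsn : s ≠ D.neg (D.simple i) := by
      intro e
      have := hG.ht_neg hp
      rw [← e, hG.ht_simple hi] at this
      omega
    refine ⟨(s, u) :: D.commWord F (D.simple i) s (-t) u, ?_, ?_⟩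
    · intro e he
      rcases List.mem_cons.1 he with rfl | he
      · exact ⟨hs, hne⟩
      · obtain ⟨c, hc, rfl⟩ := List.mem_map.1 he
        obtain ⟨hclt, h1, h2, -⟩ := hD.toGood.commTerms_coef hp hs.1 hc
        have hht := hD.toGood.commTerms_ht hp hs.1 hc
        rw [hG.ht_simple hi] at hht
        have h2' : (1 : ℤ) ≤ c.2.2.2 := by exact_mod_cast h2
        have h1' : (1 : ℤ) ≤ c.2.2.1 := by exact_mod_cast h1
        have hge : 2 ≤ ChevCore.ht D c.1 := by nlinarith
        refine ⟨(hG.isPosRoot_iff hclt).2 (by omega), fun e => ?_⟩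
        have e' := hG.ht_simple hi
        rw [← e] at e'
        simp only at hge e'
        omega
    · have h := congrArg (fun g : GL D.Idx F => (g : Matrix D.Idx D.Idx F))
        (hD.xg_comm hp hs.1 hne hsn (-t) u)
      simp only [Units.val_mul, hG.val_xg, hG.val_wordG] at h
      rw [mul_assoc, h, ← mul_assoc, ← mul_assoc, hG.x_mul, add_neg_cancel, hG.x_zero', one_mul]
      simp [ChevalleyDatum.wordMat]

end Cfsg.Agent.ChevGroup
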