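import Cfsg.Agent.ChevGroup.Mat.Perfect
import Cfsg.Agent.ChevGroup.Mat.Inst
import Cfsg.Agent.ChevGroup.Mat.G2
import Cfsg.Agent.Lib.ChevCore.CommAll

/-!
Connectedness of the diagram of type G2.
-/

set_option autoImplicit false

namespace Cfsg.Agent.ChevGroup.TypeG2

open Cfsg.Lie

/-- A climbing map for the diagram. -/
def parent (i : Fin 2) : Fin 2 := (![0, 0] : Fin 2 → Fin 2) i

theorem link_ok : model.linkB parent (0 : Fin 2) = true := by decide +kernel

/-- The Chevalley group of type G2 is simple over a field with more than two elements. -/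
theorem isSimple (F : Type*) [Field F] (hF : ∃ a : F, a ≠ 0 ∧ a ≠ 1) :
    IsSimpleGroup ↥(chevG2.group F) ∧ ¬ IsMulCommutative ↥(chevG2.group F) := by
  obtain ⟨a, ha0, ha1⟩ := hF
  set K := relsOfCommGood ChevCore.commGoodG2 F
  refine model.isSimple K wit_ok longest_ok link_ok ?_
  intro i t
  rcases (Fin.exists_fin_two (p := fun j : Fin 2 => j = i)).1 ⟨i, rfl⟩ with rfl | rfl
  · refine model.seed_of_pairing K (model.S.simple (1 : Fin 2)) _ ha0 ?_ t
    rw [show chevG2.pairing (model.S.simple (1 : Fin 2)).val (model.S.simple (0 : Fin 2)).val = -1 by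
      decide +kernel, zpow_neg_one]
    exact fun h => ha1 (inv_eq_one.1 h)
  · by_cases h2 : a ^ (2 : ℕ) = 1
    · refine model.seed_of_pairing K (model.S.simple (0 : Fin 2)) _ ha0 ?_ t
      rw [show chevG2.pairing (model.S.simple (0 : Fin 2)).val (model.S.simple (1 : Fin 2)).val = -((3 : ℕ) : ℤ) by
        decide +kernel, zpow_neg, zpow_natCast, pow_succ, h2, one_mul]
      exact fun h => ha1 (inv_eq_one.1 h)
    · refine model.seed_of_pairing K (model.S.simple (1 : Fin 2)) _ ha0 ?_ t
      rw [show chevG2.pairing (model.S.simple (1 : Fin 2)).val (model.S.simple (1 : Fin 2)).val = ((2 : ℕ) : ℤ) by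
        decide +kernel, zpow_natCast]
      exact h2

end Cfsg.Agent.ChevGroup.TypeG2
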