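import Cfsg.Prelude.Def_ChevD4
import Cfsg.Agent.ChevGroup.Mat.Chain
import Cfsg.Agent.ChevGroup.Table.D4

/-!
The table of type D4 describes `chevD4`, and the Boolean side conditions of the chain.
-/

set_option autoImplicit false

namespace Cfsg.Agent.ChevGroup.TypeD4

open Cfsg.Lie

theorem compat : compatB chevD4 tab = true := by decide +kernel

theorem shape : Mat.shapeB chevD4 = true := by decide +kernel

/-- The model of type D4. -/
def model : Model chevD4 := ⟨tab, tab_ok, compat, shape⟩

theorem wit_ok : model.witB rootWit = true := by decide +kernel

theorem longest_ok : model.longestB w0 = true := by decide +kernel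

theorem pos_span : Mat.spanB chevD4 (model.posList.map Fin.val) = true := by decide +kernel

theorem step0 : model.stepB data0 span0 = true := by decide +kernel

theorem step1 : model.stepB data1 span1 = true := by decide +kernel

theorem step2 : model.stepB data2 span2 = true := by decide +kernel

theorem step3 : model.stepB data3 span3 = true := by decide +kernel

end Cfsg.Agent.ChevGroup.TypeD4
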