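import Cfsg.Agent.ChevGroup.Mat.Order
import Cfsg.Agent.ChevGroup.Mat.F4

/-!
The order of the Chevalley group of type F4, given the relations.
-/

set_option autoImplicit false

namespace Cfsg.Agent.ChevGroup.TypeF4

open Cfsg.Lie

set_option maxHeartbeats 4000000 in
set_option maxRecDepth 20000 in
/-- The order formula. -/
theorem card_group {F : Type*} [Field F] [Fintype F] (hA : TorusFacts chevF4) (K : Rels chevF4 F) {q : ℕ} (hq : Fintype.card F = q) :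
    Nat.card ↥(chevF4.group F) = q ^ 24 * (q ^ 2 - 1) * (q ^ 6 - 1) * (q ^ 8 - 1) * (q ^ 12 - 1) := by
  have hq2 : 2 ≤ q := hq ▸ Fintype.one_lt_card
  have hH := model.card_H hA K wit_ok
    (U := (!![-1, 0, 0, 0; 1, 0, -1, 0; -2, -1, 0, 0; -2, -2, -2, -1] : Matrix (Fin 4) (Fin 4) ℤ)) (U' := (!![-1, 0, 0, 0; 2, 0, -1, 0; -1, -1, 0, 0; 0, 2, 2, -1] : Matrix (Fin 4) (Fin 4) ℤ))
    (V := (!![0, 0, 1, -2; 1, 0, 2, -4; 0, 0, 2, -3; 0, 1, 2, -2] : Matrix (Fin 4) (Fin 4) ℤ)) (V' := (!![-2, 1, 0, 0; 2, 0, -2, 1; -3, 0, 2, 0; -2, 0, 1, 0] : Matrix (Fin 4) (Fin 4) ℤ))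
    (d := (![1, 1, 1, 1] : Fin 4 → ℕ))
    (by decide +kernel) (by decide +kernel) (by decide +kernel) (by decide +kernel)
  have hU := model.card_posUnipotent K (F := F) (w := w0) longest_ok pos_span
  change _ = Nat.card F ^ 24 at hU
  rw [Nat.card_eq_fintype_card (α := F), hq] at hU
  rw [hq] at hH
  change _ * (∏ i : Fin 4, Nat.gcd (q - 1) _) = (q - 1) ^ 4 at hH
  simp [Fin.prod_univ_succ, Nat.gcd_one_right] at hH

  have h0 := model.card_step K (F := F) data0 span0 valid0 step0 masks0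
  rw [sum_fin_lengths _ _ [0, 1, 2, 3, 4, 4, 5, 5, 6, 6, 7, 7, 8, 8, 9, 9, 10, 10, 11, 11, 12, 13, 14, 15] (by decide +kernel), Nat.card_eq_fintype_card (α := F), hq] at h0
  have h1 := model.card_step K (F := F) data1 span1 valid1 step1 masks1
  rw [sum_fin_lengths _ _ [0, 1, 2, 3, 3, 4, 5, 6] (by decide +kernel), Nat.card_eq_fintype_card (α := F), hq] at h1
  have h2 := model.card_step K (F := F) data2 span2 valid2 step2 masks2
  rw [sum_fin_lengths _ _ [0, 1, 2] (by decide +kernel), Nat.card_eq_fintype_card (α := F), hq] at h2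
  have h3 := model.card_step K (F := F) data3 span3 valid3 step3 masks3
  rw [sum_fin_lengths _ _ [0, 1] (by decide +kernel), Nat.card_eq_fintype_card (α := F), hq] at h3
  rw [model.card_group_eq K wit_ok (J := (model.tab.step data0).K)
    (show ∀ i : Fin 4, i ∈ ([0, 1, 2, 3] : List (Fin 4)) by decide)]
  rw [h0]
  rw [show (model.tab.step data0).J = (model.tab.step data1).K from rfl]
  rw [h1]
  rw [show (model.tab.step data1).J = (model.tab.step data2).K from rfl]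
  rw [h2]
  rw [show (model.tab.step data2).J = (model.tab.step data3).K from rfl]
  rw [h3]
  rw [show (model.tab.step data3).J = [] from rfl, model.card_par_nil K, hU]
  generalize Nat.card ↥(Cfsg.Lie.chevF4.diagonalSubgroup F) = H at hH ⊢
  generalize hS0 : (List.map (fun x => q ^ x) [0, 1, 2, 3, 4, 4, 5, 5, 6, 6, 7, 7, 8, 8, 9, 9, 10, 10, 11, 11, 12, 13, 14, 15]).sum = S0 at *
  generalize hS1 : (List.map (fun x => q ^ x) [0, 1, 2, 3, 3, 4, 5, 6]).sum = S1 at *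
  generalize hS2 : (List.map (fun x => q ^ x) [0, 1, 2]).sum = S2 at *
  generalize hS3 : (List.map (fun x => q ^ x) [0, 1]).sum = S3 at *
  have hq1 : (1 : ℕ) ≤ q := by omega
  have e0 : (S0 : ℤ) * (((q : ℤ) ^ 1 - 1) * ((q : ℤ) ^ 4 - 1)) = ((q : ℤ) ^ 8 - 1) * ((q : ℤ) ^ 12 - 1) := by
    rw [← hS0]; simp only [List.map_cons, List.map_nil, List.sum_cons, List.sum_nil]; push_cast; ring
  have e1 : (S1 : ℤ) * (((q : ℤ) ^ 1 - 1) * ((q : ℤ) ^ 3 - 1)) = ((q : ℤ) ^ 4 - 1) * ((q : ℤ) ^ 6 - 1) := by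
    rw [← hS1]; simp only [List.map_cons, List.map_nil, List.sum_cons, List.sum_nil]; push_cast; ring
  have e2 : (S2 : ℤ) * (((q : ℤ) ^ 1 - 1)) = ((q : ℤ) ^ 3 - 1) := by
    rw [← hS2]; simp only [List.map_cons, List.map_nil, List.sum_cons, List.sum_nil]; push_cast; ring
  have e3 : (S3 : ℤ) * (((q : ℤ) ^ 1 - 1)) = ((q : ℤ) ^ 2 - 1) := by
    rw [← hS3]; simp only [List.map_cons, List.map_nil, List.sum_cons, List.sum_nil]; push_cast; ring
  zify [hq1, Nat.one_le_pow _ _ hq1] at hH ⊢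
  have n1 : (q : ℤ) ^ 1 - 1 ≠ 0 := (sub_pos.2 (one_lt_pow₀ (by exact_mod_cast hq2 : (1 : ℤ) < q) (by norm_num))).ne'
  have n2 : (q : ℤ) ^ 2 - 1 ≠ 0 := (sub_pos.2 (one_lt_pow₀ (by exact_mod_cast hq2 : (1 : ℤ) < q) (by norm_num))).ne'
  have n3 : (q : ℤ) ^ 3 - 1 ≠ 0 := (sub_pos.2 (one_lt_pow₀ (by exact_mod_cast hq2 : (1 : ℤ) < q) (by norm_num))).ne'
  have n4 : (q : ℤ) ^ 4 - 1 ≠ 0 := (sub_pos.2 (one_lt_pow₀ (by exact_mod_cast hq2 : (1 : ℤ) < q) (by norm_num))).ne'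
  have n6 : (q : ℤ) ^ 6 - 1 ≠ 0 := (sub_pos.2 (one_lt_pow₀ (by exact_mod_cast hq2 : (1 : ℤ) < q) (by norm_num))).ne'
  have n8 : (q : ℤ) ^ 8 - 1 ≠ 0 := (sub_pos.2 (one_lt_pow₀ (by exact_mod_cast hq2 : (1 : ℤ) < q) (by norm_num))).ne'
  have n12 : (q : ℤ) ^ 12 - 1 ≠ 0 := (sub_pos.2 (one_lt_pow₀ (by exact_mod_cast hq2 : (1 : ℤ) < q) (by norm_num))).ne'
  simp only [pow_one] at *
  have hA : ((q : ℤ) - 1) * ((q : ℤ) ^ 4 - 1) * ((q : ℤ) - 1) * ((q : ℤ) ^ 3 - 1) * ((q : ℤ) - 1) * ((q : ℤ) - 1) ≠ 0 := by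
    simp [*]
  apply mul_right_cancel₀ hA
  generalize (q : ℤ) - 1 = a1 at *
  generalize (q : ℤ) ^ 12 - 1 = a12 at *
  generalize (q : ℤ) ^ 8 - 1 = a8 at *
  generalize (q : ℤ) ^ 6 - 1 = a6 at *
  generalize (q : ℤ) ^ 4 - 1 = a4 at *
  generalize (q : ℤ) ^ 3 - 1 = a3 at *
  generalize (q : ℤ) ^ 2 - 1 = a2 at *
  calc _ = (q : ℤ) ^ 24 * ((1 : ℤ) * H) * ((S0 : ℤ) * (a1 * a4)) * ((S1 : ℤ) * (a1 * a3)) * ((S2 : ℤ) * (a1)) * ((S3 : ℤ) * (a1)) := by ring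
    _ = _ := by rw [show (1 : ℤ) * (H : ℤ) = a1 ^ 4 by rw [← hH]; simp [Nat.gcd_comm] <;> ring, e0, e1, e2, e3]; ring

end Cfsg.Agent.ChevGroup.TypeF4
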