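import Cfsg.Agent.ChevGroup.Mat.Torus

/-!
Bookkeeping for the order of a Chevalley group along the parabolic chain.
-/

set_option autoImplicit false

namespace Cfsg.Agent.ChevGroup

open Cfsg.Lie

lemma sum_fin_lengths {I : Type*} (C : Step I) (q : ℕ) (lens : List ℕ)
    (h : (List.range C.m).map (fun c => (C.word c).length) = lens) :
    ∑ c : Fin C.m, q ^ (C.word c).length = (lens.map (q ^ ·)).sum := by
  subst h
  rw [List.map_map, Fin.sum_univ_eq_sum_range (fun c => q ^ (C.word c).length),
    Finset.sum_eq_multiset_sum]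
  simp [Multiset.range, Function.comp_def]

namespace Model

variable {D : ChevalleyDatum} (T : Model D) {F : Type*} [Field F] (K : Rels D F)

include T K in
lemma card_group_eq {wit : List (List (Fin T.tab.l) × Fin T.tab.l)} (hwit : T.witB wit = true)
    {J : List (Fin T.tab.l)} (hJ : ∀ i, i ∈ J) :
    Nat.card ↥(D.group F) = Nat.card ↥((T.rel K).par J) := by
  rw [(T.rel K).par_all hJ, T.group_top K hwit]
  exact Nat.card_congr Subgroup.topEquiv.symm.toEquiv

include T K in
lemma card_par_nil : Nat.card ↥((T.rel K).par []) =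
    Nat.card ↥(D.posUnipotent F) * Nat.card ↥(D.diagonalSubgroup F) := by
  rw [(T.rel K).par_nil, T.card_B_eq K]

end Model

end Cfsg.Agent.ChevGroup
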