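import Cfsg.Prelude.Def_ChevAutomorphisms
import Cfsg.Agent.ChevGroup.Table.Tab

/-!
Facts about the matrices `x_r(t)` of a datum that follow from its tables alone: the shape of the entries
(unitriangularity, invariant coordinate subspaces, faithfulness in `t`), and the compatibility of a datum
with a table of `Table/Tab`.
-/

set_option autoImplicit false

namespace Cfsg.Agent.ChevGroup

open Cfsg.Lie

/-- The key that orders the coordinates: negative roots, coroots, positive roots. -/
def keyOf (D : ChevalleyDatum) : D.Idx → ℤ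
  | Sum.inl _ => (D.nroots : ℤ)
  | Sum.inr r => 2 * (r.val : ℤ) + 1

namespace Mat

variable (D : ChevalleyDatum)

/-- Two coroot coefficients of `r` are coprime. -/
def primB (r : ℕ) : Bool :=
  let c := (D.coroot.getD r #[]).toList
  (List.range D.rank).any fun i => (List.range D.rank).any fun j => Int.gcd (c.getD i 0) (c.getD j 0) == 1

/-- Positive root elements raise the key, negative ones lower it, and coroots are primitive. -/
def shapeB : Bool :=
  decide (D.nroots % 2 = 0) &&
  (List.range D.nroots).all fun r =>
    decide (D.negIdx.getD r 0 = D.nroots - 1 - r) && primB D r &&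
    (D.chain.getD r #[]).toList.all fun e => e.2.toList.all fun q =>
      if D.nroots ≤ 2 * r then decide (e.1 < q.1) else decide (q.1 < e.1)

/-- The span of the roots in `T` is invariant under positive root elements. -/
def spanB (T : List ℕ) : Bool :=
  let m := T.foldr (fun r acc => acc ||| 2 ^ r) 0
  (List.range D.nroots).all fun r => decide (2 * r < D.nroots) ||
    (!(m.testBit (D.negIdx.getD r 0)) &&
      (D.chain.getD r #[]).toList.all fun e => !(m.testBit e.1) || e.2.toList.all fun q => m.testBit q.1)

variable {D}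

lemma exists_of_chainCoeff_ne {r s u : ℕ} (h : D.chainCoeff r s u ≠ []) :
    ∃ e ∈ (D.chain.getD r #[]).toList, e.1 = s ∧ ∃ q ∈ e.2.toList, q.1 = u := by
  obtain ⟨km, hkm⟩ := List.exists_mem_of_ne_nil _ h
  simp only [ChevalleyDatum.chainCoeff, List.mem_flatMap, List.mem_filter, List.mem_map,
    decide_eq_true_eq] at hkm
  obtain ⟨e, ⟨he, hs⟩, q, ⟨hq, hu⟩, -⟩ := hkm
  refine ⟨e, he, hs, q.1, ?_, hu⟩
  obtain ⟨a, b⟩ := q
  exact List.fst_mem_of_mem_zipIdx hq

variable {F : Type*} [Field F]

/-- The only entries off the diagonal that can be non-zero. -/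
lemma xMat_off {r : Fin D.nroots} {t : F} {row col : D.Idx} (hne : row ≠ col)
    (h : D.xMat F r t row col ≠ 0) :
    (∃ i, row = Sum.inr r ∧ col = Sum.inl i) ∨
    (∃ s : Fin D.nroots, col = Sum.inr s ∧ s.val = D.negIdx.getD r.val 0 ∧
      (row = Sum.inr r ∨ ∃ i, row = Sum.inl i)) ∨
    (∃ s u : Fin D.nroots, col = Sum.inr s ∧ row = Sum.inr u ∧ s ≠ r ∧
      ∃ e ∈ (D.chain.getD r.val #[]).toList, e.1 = s.val ∧ ∃ q ∈ e.2.toList, q.1 = u.val) := by
  rcases col with i | s
  · rcases row with i' | u
    · simp only [ne_eq, Sum.inl.injEq] at hne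
      simp [ChevalleyDatum.xMat, hne] at h
    · by_cases hu : u = r
      · exact Or.inl ⟨i, by rw [hu], rfl⟩
      · simp [ChevalleyDatum.xMat, hu] at h
  · by_cases hs : s = r
    · subst hs
      rcases row with i' | u
      · simp [ChevalleyDatum.xMat] at h
      · simp only [ne_eq, Sum.inr.injEq] at hne
        simp [ChevalleyDatum.xMat, hne] at h
    · by_cases hn : s.val = D.negIdx.getD r.val 0
      · refine Or.inr (Or.inl ⟨s, rfl, hn, ?_⟩)
        rcases row with i' | u
        · exact Or.inr ⟨i', rfl⟩
        · refine Or.inl (congrArg Sum.inr ?_)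
          simp only [ne_eq, Sum.inr.injEq] at hne
          by_contra hu
          simp only [ChevalleyDatum.xMat, Matrix.of_apply, if_neg hs, if_pos hn, if_neg hne, if_neg hu,
            not_true_eq_false, ne_eq] at h
      · rcases row with i' | u
        · simp only [ChevalleyDatum.xMat, Matrix.of_apply, if_neg hs, if_neg hn, ne_eq,
            not_true_eq_false] at h
        · simp only [ne_eq, Sum.inr.injEq] at hne
          refine Or.inr (Or.inr ⟨s, u, rfl, rfl, hs, exists_of_chainCoeff_ne fun hc => h ?_⟩)
          simp only [ChevalleyDatum.xMat, Matrix.of_apply, if_neg hs, if_neg hn, if_neg hne, hc]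
          simp

lemma xMat_diag (hD : shapeB D = true) (r : Fin D.nroots) (t : F) (a : D.Idx) :
    D.xMat F r t a a = 1 := by
  simp only [shapeB, Bool.and_eq_true, List.all_eq_true, decide_eq_true_eq, List.mem_range] at hD
  obtain ⟨h2, hall⟩ := hD
  rcases a with i | s
  · simp [ChevalleyDatum.xMat]
  · by_cases hs : s = r
    · subst hs; simp [ChevalleyDatum.xMat]
    · by_cases hn : s.val = D.negIdx.getD r.val 0
      · simp [ChevalleyDatum.xMat, hs, hn]
      · simp only [ChevalleyDatum.xMat, Matrix.of_apply, if_neg hs, if_neg hn, if_true]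
        have : D.chainCoeff r.val s.val s.val = [] := by
          by_contra hc
          obtain ⟨e, he, he1, q, hq, hq1⟩ := exists_of_chainCoeff_ne hc
          have := (hall r.val r.isLt).2 e he q hq
          split at this <;> simp at this <;> omega
        simp [this]

/-- Positive root elements raise the key and negative ones lower it. -/
lemma xMat_uni (hD : shapeB D = true) (r : Fin D.nroots) (t : F) (row col : D.Idx)
    (hk : if D.nroots ≤ 2 * r.val then keyOf D row ≤ keyOf D col else keyOf D col ≤ keyOf D row) :
    D.xMat F r t row col = if row = col then 1 else 0 := by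
  rcases eq_or_ne row col with rfl | hne
  · rw [xMat_diag hD, if_pos rfl]
  · rw [if_neg hne]
    by_contra h
    simp only [shapeB, Bool.and_eq_true, List.all_eq_true, decide_eq_true_eq, List.mem_range] at hD
    obtain ⟨h2, hall⟩ := hD
    obtain ⟨⟨hneg, -⟩, hch⟩ := hall r.val r.isLt
    rcases xMat_off hne h with ⟨i, rfl, rfl⟩ | ⟨s, rfl, hs, hrow⟩ | ⟨s, u, rfl, rfl, -, e, he, he1, q, hq, hq1⟩
    · simp only [keyOf] at hk
      split at hk <;> omega
    · rw [hneg] at hs
      have := r.isLt
      rcases hrow with rfl | ⟨i, rfl⟩ <;> simp only [keyOf] at hk <;> split at hk <;> omega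
    · have := hch e he q hq
      simp only [keyOf] at hk
      split at this <;> simp at this <;> split at hk <;> omega

lemma testBit_maskList (T : List ℕ) (k : ℕ) :
    (T.foldr (fun r acc => acc ||| 2 ^ r) 0).testBit k = true ↔ k ∈ T := by
  induction T with
  | nil => simp
  | cons a t ih =>
    simp only [List.foldr_cons, Nat.testBit_or, Bool.or_eq_true, Nat.testBit_two_pow, decide_eq_true_eq,
      List.mem_cons, ih]
    tauto

/-- The coordinate span of `T` is invariant under positive root elements. -/
lemma xMat_span {T : List ℕ} (hT : spanB D T = true) (r : Fin D.nroots) (hr : D.nroots ≤ 2 * r.val)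
    (t : F) (s : Fin D.nroots) (hs : s.val ∈ T) (row : D.Idx)
    (hrow : ∀ u : Fin D.nroots, u.val ∈ T → row ≠ Sum.inr u) :
    D.xMat F r t row (Sum.inr s) = 0 := by
  have hne : row ≠ Sum.inr s := hrow s hs
  by_contra h
  simp only [spanB, List.all_eq_true, Bool.or_eq_true, Bool.and_eq_true, List.mem_range,
    decide_eq_true_eq, Bool.not_eq_true'] at hT
  obtain ⟨hneg, hch⟩ := (hT r.val r.isLt).resolve_left (by omega)
  rw [← Bool.not_eq_true, testBit_maskList] at hneg
  rcases xMat_off hne h with ⟨i, -, hc⟩ | ⟨s', hc, hs', -⟩ | ⟨s', u, hc, rfl, -, e, he, he1, q, hq, hq1⟩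
  · cases hc
  · cases hc; exact hneg (hs' ▸ hs)
  · cases hc
    rcases hch e he with h' | h'
    · rw [← Bool.not_eq_true, testBit_maskList] at h'
      exact h' (he1 ▸ hs)
    · have := h' q hq
      rw [testBit_maskList] at this
      exact hrow u (hq1 ▸ this) rfl

/-- Coroots are primitive, so `x_r(t)` determines `t`. -/
lemma xMat_eq_one (hD : shapeB D = true) (r : Fin D.nroots) (t : F) (h : D.xMat F r t = 1) : t = 0 := by
  simp only [shapeB, Bool.and_eq_true, List.all_eq_true, decide_eq_true_eq, List.mem_range] at hD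
  obtain ⟨h2, hall⟩ := hD
  obtain ⟨⟨hneg, hprim⟩, -⟩ := hall r.val r.isLt
  simp only [primB, List.any_eq_true, List.mem_range, beq_iff_eq] at hprim
  obtain ⟨i, hi, j, hj, hg⟩ := hprim
  have := r.isLt
  let s : Fin D.nroots := ⟨D.nroots - 1 - r.val, by omega⟩
  have hs : s ≠ r := fun e => by have := congrArg Fin.val e; simp [s] at this; omega
  have key : ∀ k : Fin D.rank, (((D.coroot.getD r.val #[]).getD k.val 0 : ℤ) : F) * t = 0 := by
    intro k
    have e := congrFun (congrFun h (Sum.inl k)) (Sum.inr s)
    simp only [ChevalleyDatum.xMat, Matrix.of_apply, if_neg hs, hneg, s, if_true] at e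
    simpa using e
  have hget : ∀ (a : Array ℤ) (k : ℕ), a.getD k 0 = a.toList.getD k 0 := by
    intro a k
    simp [Array.getD_eq_getD_getElem?, List.getD_eq_getElem?_getD]
  have h1 := key ⟨i, hi⟩
  have h2 := key ⟨j, hj⟩
  simp only [hget] at h1 h2
  set a := (D.coroot.getD r.val #[]).toList.getD i 0
  set b := (D.coroot.getD r.val #[]).toList.getD j 0
  have hb := Int.gcd_eq_gcd_ab a b
  rw [hg] at hb
  have hb' : (1 : F) = (a : F) * (Int.gcdA a b : F) + (b : F) * (Int.gcdB a b : F) := by
    have := congrArg (Int.cast : ℤ → F) hb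
    simpa using this
  calc t = 1 * t := (one_mul t).symm
    _ = (a : F) * t * (Int.gcdA a b : F) + (b : F) * t * (Int.gcdB a b : F) := by rw [hb']; ring
    _ = 0 := by rw [h1, h2]; ring

end Mat

/-- The table describes the root combinatorics of the datum. -/
def compatB (D : ChevalleyDatum) (T : Tab) : Bool :=
  decide (T.n = D.nroots) && decide (T.l = D.rank) &&
  ((List.range D.nroots).all fun r =>
    decide (decide (D.IsPosRoot r) = decide (D.nroots ≤ 2 * r)) &&
      decide (decide (D.IsNegRoot r) = decide (2 * r < D.nroots))) &&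
  ((List.finRange T.l).all fun i => decide ((T.simpleR i).val = D.simple i.val) &&
    (List.finRange T.n).all fun r => decide ((T.reflR i r).val = D.reflectRoot i.val r.val))

end Cfsg.Agent.ChevGroup
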