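import Cfsg.Agent.ChevGroup.Mat.Chain

/-!
An element of `N` that conjugates `U` onto `V`.
-/

set_option autoImplicit false

namespace Cfsg.Agent.ChevGroup

open Cfsg.Lie

namespace Model

variable {D : ChevalleyDatum} (T : Model D) {F : Type*} [Field F] (K : Rels D F)

include T K in
/-- A representative of the longest element carries `U` onto `V`. -/
theorem exists_opposition {w0 : List (Fin T.tab.l)} (hw : T.longestB w0 = true) :
    ∃ n ∈ D.monomialSubgroup F,
      (D.posUnipotent F).map (MulAut.conj n).toMonoidHom = D.negUnipotent F := by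
  set w := w0.reverse with hwdef
  refine ⟨(((T.rel K).nw w : ↥(D.group F)) : GL D.Idx F), ?_, ?_⟩
  · generalize w = v
    induction v with
    | nil => simp
    | cons i v ih =>
      rw [RootRel.nw_cons, Subgroup.coe_mul]
      refine mul_mem ((le_sup_right : _ ≤ D.monomialSubgroup F) (Subgroup.subset_closure
        ⟨(T.S.simple i).val, T.lt _, ?_⟩)) ih
      exact T.mat_nOf K _ 1
  · rw [← T.U_map K, Subgroup.map_map, RootRel.U, MonoidHom.map_closure, ChevalleyDatum.negUnipotent]
    congr 1
    have hneg : ∀ r, T.S.pos r → D.IsNegRoot (T.S.actw w r).val := by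
      intro r hr
      have h := T.longest_neg hw r hr
      rw [T.negRoot_iff (T.lt _)]
      have h2 := T.S.not_pos_neg _ h
      rw [T.S.neg_neg, T.pos_val, T.pos_iff (T.lt _), ← hwdef] at h2
      omega
    ext g
    constructor
    · rintro ⟨_, ⟨r, t, hr, rfl⟩, rfl⟩
      obtain ⟨e, -, he⟩ := (T.rel K).nw_conj w r
      refine ⟨(T.S.actw w r).val, e * t, hneg r hr, ?_⟩
      show mat ((T.rel K).nw w * (T.rel K).x r t * ((T.rel K).nw w)⁻¹) = _
      rw [he]
      rfl
    · rintro ⟨s, t, hs, hg⟩
      let s' : Fin T.tab.n := ⟨s, T.n_eq.symm ▸ hs.1⟩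
      set r := T.S.actw w0 s' with hrdef
      have hrs : T.S.actw w r = s' := T.S.actw_reverse' w0 s'
      have hr : T.S.pos r := by
        refine (T.S.pos_or_neg r).resolve_right fun h => ?_
        have := hneg _ h
        rw [T.S.actw_neg, hrs, T.negRoot_iff (T.lt _), T.neg_eq] at this
        have h2 := (T.negRoot_iff hs.1).1 hs
        have h3 : T.tab.n - 1 - s = D.neg s := T.neg_eq s'
        have hn := T.n_eq
        have hlt := hs.1
        have hev : D.nroots % 2 = 0 := by
          have hsh := T.shape
          simp only [Mat.shapeB, Bool.and_eq_true, decide_eq_true_eq] at hsh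
          exact hsh.1
        change 2 * D.neg s < D.nroots at this
        omega
      obtain ⟨e, he', he⟩ := (T.rel K).nw_conj w r
      refine ⟨_, ⟨r, e * t, hr, rfl⟩, ?_⟩
      apply Units.ext
      rw [hg]
      show mat ((T.rel K).nw w * (T.rel K).x r (e * t) * ((T.rel K).nw w)⁻¹) = _
      rw [he, ← mul_assoc, he', one_mul, hrs]
      rfl

end Model

end Cfsg.Agent.ChevGroup
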