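import Cfsg.Agent.ChevGroup.Mat.Order
import Cfsg.Agent.ChevGroup.Mat.B2

/-!
The order of the Chevalley group of type B2, given the relations.
-/

set_option autoImplicit false

namespace Cfsg.Agent.ChevGroup.TypeB2

open Cfsg.Lie

set_option maxHeartbeats 4000000 in
set_option maxRecDepth 20000 in
/-- The order formula. -/
theorem card_group {F : Type*} [Field F] [Fintype F] (hA : TorusFacts chevB2) (K : Rels chevB2 F) {q : ℕ} (hq : Fintype.card F = q) :
    Nat.gcd 2 (q - 1) * Nat.card ↥(chevB2.group F) = q ^ 4 * (q ^ 2 - 1) * (q ^ 4 - 1) := by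
  have hq2 : 2 ≤ q := hq ▸ Fintype.one_lt_card
  have hH := model.card_H hA K wit_ok
    (U := (!![0, -1; 1, 2] : Matrix (Fin 2) (Fin 2) ℤ)) (U' := (!![2, 1; -1, 0] : Matrix (Fin 2) (Fin 2) ℤ))
    (V := (!![1, 2; 0, 1] : Matrix (Fin 2) (Fin 2) ℤ)) (V' := (!![1, -2; 0, 1] : Matrix (Fin 2) (Fin 2) ℤ))
    (d := (![1, 2] : Fin 2 → ℕ))
    (by decide +kernel) (by decide +kernel) (by decide +kernel) (by decide +kernel)
  have hU := model.card_posUnipotent K (F := F) (w := w0) longest_ok pos_span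
  change _ = Nat.card F ^ 4 at hU
  rw [Nat.card_eq_fintype_card (α := F), hq] at hU
  rw [hq] at hH
  change _ * (∏ i : Fin 2, Nat.gcd (q - 1) _) = (q - 1) ^ 2 at hH
  simp [Fin.prod_univ_succ, Nat.gcd_one_right] at hH

  have h0 := model.card_step K (F := F) data0 span0 valid0 step0 masks0
  rw [sum_fin_lengths _ _ [0, 1, 2, 3] (by decide +kernel), Nat.card_eq_fintype_card (α := F), hq] at h0
  have h1 := model.card_step K (F := F) data1 span1 valid1 step1 masks1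
  rw [sum_fin_lengths _ _ [0, 1] (by decide +kernel), Nat.card_eq_fintype_card (α := F), hq] at h1
  rw [model.card_group_eq K wit_ok (J := (model.tab.step data0).K)
    (show ∀ i : Fin 2, i ∈ ([0, 1] : List (Fin 2)) by decide)]
  rw [h0]
  rw [show (model.tab.step data0).J = (model.tab.step data1).K from rfl]
  rw [h1]
  rw [show (model.tab.step data1).J = [] from rfl, model.card_par_nil K, hU]
  generalize Nat.card ↥(Cfsg.Lie.chevB2.diagonalSubgroup F) = H at hH ⊢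
  generalize hS0 : (List.map (fun x => q ^ x) [0, 1, 2, 3]).sum = S0 at *
  generalize hS1 : (List.map (fun x => q ^ x) [0, 1]).sum = S1 at *
  have hq1 : (1 : ℕ) ≤ q := by omega
  have e0 : (S0 : ℤ) * (((q : ℤ) ^ 1 - 1)) = ((q : ℤ) ^ 4 - 1) := by
    rw [← hS0]; simp only [List.map_cons, List.map_nil, List.sum_cons, List.sum_nil]; push_cast; ring
  have e1 : (S1 : ℤ) * (((q : ℤ) ^ 1 - 1)) = ((q : ℤ) ^ 2 - 1) := by
    rw [← hS1]; simp only [List.map_cons, List.map_nil, List.sum_cons, List.sum_nil]; push_cast; ring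
  zify [hq1, Nat.one_le_pow _ _ hq1] at hH ⊢
  have n1 : (q : ℤ) ^ 1 - 1 ≠ 0 := (sub_pos.2 (one_lt_pow₀ (by exact_mod_cast hq2 : (1 : ℤ) < q) (by norm_num))).ne'
  have n2 : (q : ℤ) ^ 2 - 1 ≠ 0 := (sub_pos.2 (one_lt_pow₀ (by exact_mod_cast hq2 : (1 : ℤ) < q) (by norm_num))).ne'
  have n4 : (q : ℤ) ^ 4 - 1 ≠ 0 := (sub_pos.2 (one_lt_pow₀ (by exact_mod_cast hq2 : (1 : ℤ) < q) (by norm_num))).ne'
  simp only [pow_one] at *
  have hA : ((q : ℤ) - 1) * ((q : ℤ) - 1) ≠ 0 := by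
    simp [*]
  apply mul_right_cancel₀ hA
  generalize (q : ℤ) - 1 = a1 at *
  generalize (q : ℤ) ^ 4 - 1 = a4 at *
  generalize (q : ℤ) ^ 2 - 1 = a2 at *
  calc _ = (q : ℤ) ^ 4 * ((Nat.gcd 2 (q - 1) : ℤ) * H) * ((S0 : ℤ) * (a1)) * ((S1 : ℤ) * (a1)) := by ring
    _ = _ := by rw [show (Nat.gcd 2 (q - 1) : ℤ) * (H : ℤ) = a1 ^ 2 by rw [← hH]; simp [Nat.gcd_comm] <;> ring, e0, e1]; ring

end Cfsg.Agent.ChevGroup.TypeB2
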