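import Cfsg.Agent.ChevGroup.Mat.Chain
import Cfsg.Agent.Lib.ChevCore.CommGroup

/-!
Root elements inside the derived subgroup, and simplicity of the Chevalley groups.
-/

set_option autoImplicit false

open scoped commutatorElement

namespace Cfsg.Agent.ChevGroup

open Cfsg.Lie

namespace RootRel

variable {Φ I : Type*} {G : Type*} [Group G] {F : Type*} [Field F] {S : RootIdx Φ I} (R : RootRel G F S)

/-- A root scaled by some torus element is in the derived subgroup. -/
lemma x_mem_commutator_of_scale {s : Φ} {h : G} {a : F} (ha : a ≠ 1)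
    (hs : ∀ t, h * R.x s t * h⁻¹ = R.x s (a * t)) (t : F) : R.x s t ∈ commutator G := by
  have e : ⁅h, R.x s (t / (a - 1))⁆ = R.x s t := by
    rw [commutatorElement_def, hs, ← R.x_neg, ← R.x_add]
    congr 1
    have := sub_ne_zero.2 ha
    field_simp
    ring
  rw [← e]
  exact Subgroup.commutator_mem_commutator (Subgroup.mem_top _) (Subgroup.mem_top _)

/-- A root is in the derived subgroup if a conjugate one is. -/
lemma x_mem_commutator_conj (w : List I) (r : Φ) (h : ∀ t, R.x r t ∈ commutator G) (t : F) :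
    R.x (S.actw w r) t ∈ commutator G := by
  obtain ⟨e, he, hc⟩ := R.nw_conj w r
  have h1 := hc (e * t)
  rw [← mul_assoc, he, one_mul] at h1
  rw [← h1]
  exact Subgroup.Normal.conj_mem inferInstance _ (h _) _

end RootRel

namespace Model

variable {D : ChevalleyDatum} (T : Model D)

/-- The diagram is connected: `par` climbs to the node `r0` along links in both directions. -/
def linkB (par : Fin T.tab.l → Fin T.tab.l) (r0 : Fin T.tab.l) : Bool :=
  (List.finRange T.tab.l).all fun i => decide ((par^[T.tab.l]) i = r0) && (decide (par i = i) ||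
    (decide (T.S.pos (T.S.refl (par i) (T.S.refl i (T.S.simple (par i))))) &&
      decide (T.S.pos (T.S.actw [par i, i, par i] (T.S.neg (T.S.simple (par i))))) &&
      decide (T.S.pos (T.S.refl i (T.S.refl (par i) (T.S.simple i)))) &&
      decide (T.S.pos (T.S.actw [i, par i, i] (T.S.neg (T.S.simple i))))))

lemma linked {par : Fin T.tab.l → Fin T.tab.l} {r0 : Fin T.tab.l} (h : T.linkB par r0 = true)
    (i j : Fin T.tab.l) : Relation.ReflTransGen T.S.Link i j := by
  simp only [linkB, List.all_eq_true, Bool.and_eq_true, Bool.or_eq_true, decide_eq_true_eq] at h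
  have up : ∀ k i, Relation.ReflTransGen T.S.Link i (par^[k] i) ∧
      Relation.ReflTransGen T.S.Link (par^[k] i) i := by
    intro k
    induction k with
    | zero => exact fun i => ⟨.refl, .refl⟩
    | succ k ih =>
      intro i
      rw [Function.iterate_succ_apply']
      obtain ⟨h1, h2⟩ := ih i
      rcases (h _ (List.mem_finRange (par^[k] i))).2 with e | ⟨⟨⟨a, b⟩, c⟩, d⟩
      · rw [e]; exact ⟨h1, h2⟩
      · exact ⟨h1.tail ⟨a, b⟩, Relation.ReflTransGen.head ⟨c, d⟩ h2⟩
  have hi := (up T.tab.l i).1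
  have hj := (up T.tab.l j).2
  rw [(h i (List.mem_finRange i)).1] at hi
  rw [(h j (List.mem_finRange j)).1] at hj
  exact hi.trans hj

variable {F : Type*} [Field F] (K : Rels D F)

include T K in
/-- Simplicity from a longest word, a connected diagram and fundamental root groups in the derived
subgroup. -/
theorem isSimple {wit : List (List (Fin T.tab.l) × Fin T.tab.l)} (hwit : T.witB wit = true)
    {w0 : List (Fin T.tab.l)} (hw : T.longestB w0 = true)
    {par : Fin T.tab.l → Fin T.tab.l} {r0 : Fin T.tab.l} (hlink : T.linkB par r0 = true)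
    (hseed : ∀ i t, (T.rel K).x (T.S.simple i) t ∈ commutator ↥(D.group F)) :
    IsSimpleGroup ↥(D.group F) ∧ ¬ IsMulCommutative ↥(D.group F) := by
  refine (T.shapeR K).isSimple (T.group_top K hwit) w0 (fun r hr => T.longest_neg hw r hr)
    (fun r t h => T.x_ne K r t h) (fun h hh hc => T.faithful K hh hc) (T.linked hlink) ?_ ⟨r0⟩
  intro r t
  obtain ⟨w, j, rfl⟩ := T.witness hwit r
  exact (T.rel K).x_mem_commutator_conj w _ (hseed j) t

/-- A root is in the derived subgroup when some torus element moves it. -/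
lemma seed_of_pairing (r s : Fin T.tab.n) {c : F} (hc : c ≠ 0) (hne : c ^ D.pairing r.val s.val ≠ 1)
    (t : F) : (T.rel K).x s t ∈ commutator ↥(D.group F) := by
  refine (T.rel K).x_mem_commutator_of_scale (h := (T.rel K).hr r c) hne (fun u => ?_) t
  rw [mul_inv_eq_iff_eq_mul]
  apply mat_inj
  rw [mat_mul, mat_mul]
  show mat (hOf T.S.neg (T.xG K) r c) * _ = _ * mat (hOf T.S.neg (T.xG K) r c)
  rw [T.mat_hOf]
  exact K.h_conj _ _ (T.lt r) (T.lt s) c u hc

include K in
/-- The word of a commutator formula lies in the derived subgroup. -/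
lemma word_mem_commutator (hD : ChevCore.CommGood D) (r s : Fin T.tab.n) (h1 : s ≠ r)
    (h2 : s ≠ T.S.neg r) (t u : F) :
    ∃ g ∈ commutator ↥(D.group F), mat g = D.wordMat F (D.commWord F r.val s.val t u) := by
  have hG := hD.toGood
  have h2' : s.val ≠ D.neg r.val := fun e => h2 (Fin.ext (by rw [e, T.neg_eq]))
  have h := hD.xg_comm (T.lt r) (T.lt s) (fun e => h1 (Fin.ext e)) h2' t u
  refine ⟨⁅((T.rel K).x s u)⁻¹, ((T.rel K).x r t)⁻¹⁆,
    Subgroup.commutator_mem_commutator (Subgroup.mem_top _) (Subgroup.mem_top _), ?_⟩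
  have e : ∀ (r : Fin T.tab.n) (t : F),
      (((T.rel K).x r t : ↥(D.group F)) : GL D.Idx F) = ChevCore.xg D F r.val t :=
    fun r t => Units.ext (by rw [hG.val_xg]; rfl)
  rw [← hG.val_wordG]
  show (((⁅((T.rel K).x s u)⁻¹, ((T.rel K).x r t)⁻¹⁆ : ↥(D.group F)) : GL D.Idx F) : Matrix D.Idx D.Idx F) = _
  congr 1
  simp only [commutatorElement_def, inv_inv, Subgroup.coe_mul, Subgroup.coe_inv, e]
  rw [mul_assoc _ (ChevCore.xg D F s.val u), h]
  group

/-- `x_p` is the whole right-hand side of some commutator formula. -/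
lemma seed_of_single (hD : ChevCore.CommGood D) (i : Fin T.tab.l) (r s : Fin T.tab.n) (e : ℤ)
    (he : e * e = 1) (h1 : s ≠ r) (h2 : s ≠ T.S.neg r)
    (hterms : D.commTerms r.val s.val = [((T.S.simple i).val, e, 1, 1)]) (t : F) :
    (T.rel K).x (T.S.simple i) t ∈ commutator ↥(D.group F) := by
  obtain ⟨g, hg, hge⟩ := T.word_mem_commutator K hD r s h1 h2 (-((e : F) * t)) 1
  have : (T.rel K).x (T.S.simple i) t = g := by
    apply mat_inj
    rw [hge]
    show D.x F _ t = _
    have he' : (e : F) * e = 1 := by rw [← Int.cast_mul, he, Int.cast_one]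
    simp only [ChevalleyDatum.wordMat, ChevalleyDatum.commWord, hterms, List.map_cons, List.map_nil,
      List.prod_cons, List.prod_nil, mul_one, pow_one, neg_neg, ← mul_assoc, he', one_mul]
  rw [this]; exact hg

/-- The certificate that all fundamental root groups are single commutator terms. -/
def singleB (cert : List (ℕ × ℕ × ℤ)) : Bool :=
  decide (cert.length = T.tab.l) && (List.finRange T.tab.l).all fun i =>
    let c := cert.getD i.val (0, 0, 0)
    decide (c.1 < T.tab.n) && decide (c.2.1 < T.tab.n) && decide (c.2.2 * c.2.2 = 1) &&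
      decide (c.2.1 ≠ c.1) && decide (c.2.1 ≠ T.tab.n - 1 - c.1) &&
      decide (D.commTerms c.1 c.2.1 = [((T.S.simple i).val, c.2.2, 1, 1)])

lemma seed_of_singleB (hD : ChevCore.CommGood D) {cert : List (ℕ × ℕ × ℤ)}
    (h : T.singleB cert = true) (i : Fin T.tab.l) (t : F) :
    (T.rel K).x (T.S.simple i) t ∈ commutator ↥(D.group F) := by
  simp only [singleB, Bool.and_eq_true, List.all_eq_true, decide_eq_true_eq] at h
  obtain ⟨⟨⟨⟨⟨h1, h2⟩, he⟩, h3⟩, h4⟩, h5⟩ := h.2 i (List.mem_finRange i)
  exact T.seed_of_single K hD i ⟨_, h1⟩ ⟨_, h2⟩ _ he (fun e => h3 (congrArg Fin.val e))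
    (fun e => h4 (congrArg Fin.val e)) h5 t

end Model

end Cfsg.Agent.ChevGroup
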