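import Cfsg.Agent.ChevGroup.Mat.Data
import Cfsg.Agent.ChevGroup.Shape

/-!
From the relations between the matrices of a datum (as equations between matrices) to the abstract
`RootRel` and `Shape` structures on the Chevalley group, and the correspondence of subgroups.
-/

set_option autoImplicit false

namespace Cfsg.Agent.ChevGroup

open Cfsg.Lie

/-- The relations of a datum that the engine needs, as equations between matrices. -/
structure Rels (D : ChevalleyDatum) (F : Type*) [Field F] where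
  x_zero : ∀ r, r < D.nroots → D.x F r 0 = 1
  x_add : ∀ r, r < D.nroots → ∀ t u, D.x F r (t + u) = D.x F r t * D.x F r u
  h_diag : ∀ r, r < D.nroots → ∀ c : F, c ≠ 0 → D.hMat F r c =
    Matrix.diagonal (Sum.elim (fun _ => (1 : F)) fun s : Fin D.nroots => c ^ D.pairing r s.val)
  h_conj : ∀ r s, r < D.nroots → s < D.nroots → ∀ c t : F, c ≠ 0 →
    D.hMat F r c * D.x F s t = D.x F s (c ^ D.pairing r s * t) * D.hMat F r c
  eta : ℕ → ℕ → F
  eta_sq : ∀ i s, i < D.rank → s < D.nroots → eta i s * eta i s = 1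
  eta_neg : ∀ i s, i < D.rank → s < D.nroots → eta i (D.neg s) = eta i s
  n_conj : ∀ i s, i < D.rank → s < D.nroots → ∀ t : F, D.nMat F (D.simple i) 1 * D.x F s t =
    D.x F (D.reflectRoot i s) (eta i s * t) * D.nMat F (D.simple i) 1
  n_mono : ∀ i (s : Fin D.nroots) (a : D.Idx), i < D.rank →
    (∀ u : Fin D.nroots, u.val = D.reflectRoot i s.val → a ≠ Sum.inr u) →
    D.nMat F (D.simple i) 1 a (Sum.inr s) = 0
  comm : ∀ i s, i < D.rank → D.IsPosRoot s → s ≠ D.simple i → ∀ t u : F, ∃ w : List (ℕ × F),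
    (∀ e ∈ w, D.IsPosRoot e.1 ∧ e.1 ≠ D.simple i) ∧
      D.x F (D.simple i) t * D.x F s u * D.x F (D.simple i) (-t) = D.wordMat F w

/-- A datum with a table that describes it. -/
structure Model (D : ChevalleyDatum) where
  tab : Tab
  ok : tab.ok = true
  compat : compatB D tab = true
  shape : Mat.shapeB D = true

namespace Model

variable {D : ChevalleyDatum} (T : Model D)

/-- The root system. -/
abbrev S : RootIdx (Fin T.tab.n) (Fin T.tab.l) := T.tab.idx T.ok

instance : DecidablePred T.S.pos := fun r => inferInstanceAs (Decidable (T.tab.n ≤ 2 * r.val))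

lemma n_eq : T.tab.n = D.nroots := by
  have := T.compat
  simp only [compatB, Bool.and_eq_true, decide_eq_true_eq] at this
  exact this.1.1.1

lemma l_eq : T.tab.l = D.rank := by
  have := T.compat
  simp only [compatB, Bool.and_eq_true, decide_eq_true_eq] at this
  exact this.1.1.2

include T in
lemma pos_iff {r : ℕ} (hr : r < D.nroots) : D.IsPosRoot r ↔ D.nroots ≤ 2 * r := by
  have := T.compat
  simp only [compatB, Bool.and_eq_true, List.all_eq_true, decide_eq_true_eq, List.mem_range,
    decide_eq_decide] at this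
  exact (this.1.2 r hr).1

include T in
lemma negRoot_iff {r : ℕ} (hr : r < D.nroots) : D.IsNegRoot r ↔ 2 * r < D.nroots := by
  have := T.compat
  simp only [compatB, Bool.and_eq_true, List.all_eq_true, decide_eq_true_eq, List.mem_range,
    decide_eq_decide] at this
  exact (this.1.2 r hr).2

lemma simple_eq (i : Fin T.tab.l) : (T.S.simple i).val = D.simple i.val := by
  have := T.compat
  simp only [compatB, Bool.and_eq_true, List.all_eq_true, decide_eq_true_eq] at this
  exact (this.2 i (List.mem_finRange i)).1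

lemma refl_eq (i : Fin T.tab.l) (r : Fin T.tab.n) : (T.S.refl i r).val = D.reflectRoot i.val r.val := by
  have := T.compat
  simp only [compatB, Bool.and_eq_true, List.all_eq_true, decide_eq_true_eq] at this
  exact (this.2 i (List.mem_finRange i)).2 r (List.mem_finRange r)

lemma neg_eq (r : Fin T.tab.n) : (T.S.neg r).val = D.neg r.val := by
  have hs := T.shape
  simp only [Mat.shapeB, Bool.and_eq_true, List.all_eq_true, decide_eq_true_eq, List.mem_range] at hs
  have h := (hs.2 r.val (by rw [← T.n_eq]; exact r.isLt)).1.1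
  show T.tab.n - 1 - r.val = D.negIdx.getD r.val 0
  have := T.n_eq
  omega

lemma lt (r : Fin T.tab.n) : r.val < D.nroots := T.n_eq ▸ r.isLt

lemma lt_l (i : Fin T.tab.l) : i.val < D.rank := T.l_eq ▸ i.isLt

lemma pos_val (r : Fin T.tab.n) : T.S.pos r ↔ D.IsPosRoot r.val := by
  rw [T.pos_iff (T.lt r)]
  show T.tab.n ≤ 2 * r.val ↔ _
  have := T.n_eq
  omega

/-- The coordinate of a root. -/
def coord (r : Fin T.tab.n) : D.Idx := Sum.inr ⟨r.val, T.lt r⟩

variable {F : Type*} [Field F] (K : Rels D F)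

/-- `x_r(t)` as an element of the Chevalley group. -/
def xG (r : Fin T.tab.n) (t : F) : ↥(D.group F) :=
  ⟨⟨D.x F r.val t, D.x F r.val (-t),
      by rw [← K.x_add _ (T.lt r), add_neg_cancel, K.x_zero _ (T.lt r)],
      by rw [← K.x_add _ (T.lt r), neg_add_cancel, K.x_zero _ (T.lt r)]⟩,
    Subgroup.subset_closure ⟨⟨r.val, T.lt r⟩, t, by simp [ChevalleyDatum.x, T.lt r]⟩⟩

/-- The matrix of an element of the Chevalley group. -/
abbrev mat (g : ↥(D.group F)) : Matrix D.Idx D.Idx F := ((g : GL D.Idx F) : Matrix D.Idx D.Idx F)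

omit K in
lemma mat_inj {g h : ↥(D.group F)} (e : mat g = mat h) : g = h := Subtype.ext (Units.ext e)

lemma mat_xG (r : Fin T.tab.n) (t : F) : mat (T.xG K r t) = D.x F r.val t := rfl

omit K in
lemma mat_mul (g h : ↥(D.group F)) : mat (g * h) = mat g * mat h := rfl

lemma mat_nOf (r : Fin T.tab.n) (c : F) :
    mat (nOf T.S.neg (T.xG K) r c) = D.nMat F r.val c := by
  simp only [nOf, mat_mul, T.mat_xG, T.neg_eq, ChevalleyDatum.nMat, ChevalleyDatum.nWord,
    ChevalleyDatum.wordMat, List.map_cons, List.map_nil, List.prod_cons, List.prod_nil, mul_one, mul_assoc]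

lemma mat_hOf (r : Fin T.tab.n) (c : F) :
    mat (hOf T.S.neg (T.xG K) r c) = D.hMat F r.val c := by
  simp only [hOf, mat_mul, T.mat_nOf, ChevalleyDatum.hMat, ChevalleyDatum.hWord, ChevalleyDatum.nMat,
    ChevalleyDatum.wordMat, List.map_append, List.prod_append]

/-- The relations on the Chevalley group. -/
def rel : RootRel (↥(D.group F)) F T.S where
  x := T.xG K
  x_add r a b := mat_inj (by rw [mat_mul, T.mat_xG, T.mat_xG, T.mat_xG, K.x_add _ (T.lt r)])
  sgn i r := K.eta i.val r.val
  sgn_sq i r := K.eta_sq _ _ (T.lt_l i) (T.lt r)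
  sgn_neg i r := by rw [T.neg_eq, K.eta_neg _ _ (T.lt_l i) (T.lt r)]
  n_conj i r t := by
    rw [mul_inv_eq_iff_eq_mul]
    apply mat_inj
    rw [mat_mul, mat_mul, T.mat_nOf, T.mat_xG, T.mat_xG, T.simple_eq, T.refl_eq]
    exact K.n_conj _ _ (T.lt_l i) (T.lt r) t
  h_conj r c s hc := by
    refine ⟨c ^ D.pairing r.val s.val, zpow_ne_zero _ hc, fun t => ?_⟩
    rw [mul_inv_eq_iff_eq_mul]
    apply mat_inj
    rw [mat_mul, mat_mul, T.mat_hOf, T.mat_xG, T.mat_xG]
    exact K.h_conj _ _ (T.lt r) (T.lt s) c t hc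
  comm_mem i s t u hs hne := by
    have hne' : s.val ≠ D.simple i.val := fun e => hne (Fin.ext (by rw [e, T.simple_eq]))
    obtain ⟨w, hw, he⟩ := K.comm i.val s.val (T.lt_l i) ((T.pos_val s).1 hs) hne' t u
    have key : ∀ w : List (ℕ × F), (∀ e ∈ w, D.IsPosRoot e.1 ∧ e.1 ≠ D.simple i.val) →
        ∃ g ∈ uOther T.S.pos (T.xG K) (T.S.simple i), mat g = D.wordMat F w := by
      intro w
      induction w with
      | nil => intro _; exact ⟨1, one_mem _, by simp [ChevalleyDatum.wordMat]⟩
      | cons e w ih =>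
        intro h
        obtain ⟨g, hg, hge⟩ := ih fun e' he' => h e' (List.mem_cons_of_mem _ he')
        obtain ⟨hp, hn⟩ := h e (List.mem_cons_self ..)
        let r : Fin T.tab.n := ⟨e.1, T.n_eq.symm ▸ hp.1⟩
        refine ⟨T.xG K r e.2 * g, mul_mem (Subgroup.subset_closure ⟨r, e.2, (T.pos_val r).2 hp, ?_, rfl⟩) hg, ?_⟩
        · intro h'
          exact hn (by rw [← T.simple_eq, ← h'])
        · rw [mat_mul, hge, T.mat_xG]
          simp [ChevalleyDatum.wordMat, r]
    obtain ⟨g, hg, hge⟩ := key w hw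
    have : T.xG K (T.S.simple i) t * T.xG K s u * T.xG K (T.S.simple i) (-t) = g := by
      apply mat_inj
      rw [mat_mul, mat_mul, T.mat_xG, T.mat_xG, T.mat_xG, T.simple_eq, he, hge]
    rwa [this]

/-- The matrix realisation. -/
def shapeR : Shape (T.rel K) D.Idx where
  ρ := (D.group F).subtype
  inj := Subtype.coe_injective
  e := T.coord
  e_inj a b h := by
    simp only [coord, Sum.inr.injEq, Fin.mk.injEq] at h
    exact Fin.ext h
  key := keyOf D
  uni_pos r t hr a b hk := by
    show D.x F r.val t a b = _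
    rw [ChevalleyDatum.x, dif_pos (T.lt r)]
    refine Mat.xMat_uni T.shape _ t a b ?_
    rw [if_pos (by have := (T.pos_iff (T.lt r)).1 ((T.pos_val r).1 hr); exact this)]
    exact hk
  uni_neg r t hr a b hk := by
    show D.x F (T.S.neg r).val t a b = _
    rw [ChevalleyDatum.x, dif_pos (T.lt _)]
    refine Mat.xMat_uni T.shape _ t a b ?_
    rw [if_neg]
    · simpa using hk
    · intro h
      have h' : T.S.pos (T.S.neg r) := (T.pos_val _).2 ((T.pos_iff (T.lt _)).2 h)
      exact T.S.not_pos_neg r hr h'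
  diag r c a b hc hab := by
    show mat (hOf T.S.neg (T.xG K) r c) a b = 0
    rw [T.mat_hOf, K.h_diag _ (T.lt r) c hc, Matrix.diagonal_apply_ne _ hab]
  mono i r a ha := by
    show mat (nOf T.S.neg (T.xG K) (T.S.simple i) 1) a (Sum.inr ⟨r.val, T.lt r⟩) = 0
    rw [T.mat_nOf, T.simple_eq]
    refine K.n_mono i.val ⟨r.val, T.lt r⟩ a (T.lt_l i) fun u hu e => ha ?_
    rw [e, coord]
    exact congrArg Sum.inr (Fin.ext (by rw [hu]; exact (T.refl_eq i r).symm))

/-- Invariance of a span checked on the table. -/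
lemma pres_of_spanB {T0 : List (Fin T.tab.n)} (h : Mat.spanB D (T0.map Fin.val) = true)
    (r : Fin T.tab.n) (t : F) (hr : T.S.pos r) :
    (T.shapeR K).Pres (fun s => s ∈ T0) ((T.rel K).x r t) := by
  intro s hs a ha
  show D.x F r.val t a (Sum.inr ⟨s.val, T.lt s⟩) = 0
  rw [ChevalleyDatum.x, dif_pos (T.lt r)]
  refine Mat.xMat_span h _ ((T.pos_iff (T.lt r)).1 ((T.pos_val r).1 hr)) t _ (List.mem_map_of_mem hs) a ?_
  intro u hu e
  obtain ⟨u', hu', he⟩ := List.mem_map.1 hu
  refine ha u' hu' ?_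
  rw [e]
  exact congrArg Sum.inr (Fin.ext he.symm)

lemma x_ne (r : Fin T.tab.n) (t : F) (h : (T.rel K).x r t = 1) : t = 0 := by
  have e := congrArg mat h
  change mat (T.xG K r t) = 1 at e
  rw [T.mat_xG, ChevalleyDatum.x, dif_pos (T.lt r)] at e
  exact Mat.xMat_eq_one T.shape _ t e

lemma U_map : (T.rel K).U.map (D.group F).subtype = D.posUnipotent F := by
  rw [RootRel.U, MonoidHom.map_closure, ChevalleyDatum.posUnipotent]
  congr 1
  ext g
  constructor
  · rintro ⟨_, ⟨r, t, hr, rfl⟩, rfl⟩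
    exact ⟨r.val, t, (T.pos_val r).1 hr, rfl⟩
  · rintro ⟨r, t, hr, he⟩
    let r' : Fin T.tab.n := ⟨r, T.n_eq.symm ▸ hr.1⟩
    exact ⟨T.xG K r' t, ⟨r', t, (T.pos_val r').2 hr, rfl⟩, Units.ext (by rw [he]; rfl)⟩

lemma H_map : (T.rel K).H.map (D.group F).subtype = D.diagonalSubgroup F := by
  rw [RootRel.H, MonoidHom.map_closure, ChevalleyDatum.diagonalSubgroup]
  congr 1
  ext g
  constructor
  · rintro ⟨_, ⟨r, c, hc, rfl⟩, rfl⟩
    exact ⟨r.val, c, T.lt r, hc, T.mat_hOf K r c⟩
  · rintro ⟨r, c, hr, hc, he⟩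
    let r' : Fin T.tab.n := ⟨r, T.n_eq.symm ▸ hr⟩
    exact ⟨(T.rel K).hr r' c, ⟨r', c, hc, rfl⟩, Units.ext (by rw [he]; exact T.mat_hOf K r' c)⟩

lemma B_map : (T.rel K).B.map (D.group F).subtype = D.borelSubgroup F := by
  rw [RootRel.B, Subgroup.map_sup, T.U_map, T.H_map]
  rfl

lemma card_U_eq : Nat.card ↥(D.posUnipotent F) = Nat.card ↥(T.rel K).U := by
  rw [← T.U_map K]
  exact Subgroup.card_map_of_injective Subtype.coe_injective

lemma card_H_eq : Nat.card ↥(D.diagonalSubgroup F) = Nat.card ↥(T.rel K).H := by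
  rw [← T.H_map K]
  exact Subgroup.card_map_of_injective Subtype.coe_injective

lemma H_inl {g : ↥(D.group F)} (hg : g ∈ (T.rel K).H) (i : Fin D.rank) :
    mat g (Sum.inl i) (Sum.inl i) = 1 := by
  have hmul : ∀ a b : ↥(D.group F), a ∈ (T.rel K).H → b ∈ (T.rel K).H →
      mat (a * b) (Sum.inl i) (Sum.inl i) =
        mat a (Sum.inl i) (Sum.inl i) * mat b (Sum.inl i) (Sum.inl i) := by
    intro a b ha _
    rw [mat_mul, Matrix.mul_apply, Finset.sum_eq_single (Sum.inl i : D.Idx)]
    · intro c _ hc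
      have : mat a (Sum.inl i) c = 0 := (T.shapeR K).diag_of_H ha _ c hc.symm
      rw [this, zero_mul]
    · simp
  induction hg using Subgroup.closure_induction with
  | mem g hg =>
    obtain ⟨r, c, hc, rfl⟩ := hg
    show mat (hOf T.S.neg (T.xG K) r c) _ _ = 1
    rw [T.mat_hOf, K.h_diag _ (T.lt r) c hc]
    simp
  | one => simp [mat]
  | mul a b ha hb h1 h2 => rw [hmul a b ha hb, h1, h2, one_mul]
  | inv a ha h1 =>
    have := hmul a a⁻¹ ha (inv_mem ha)
    rw [mul_inv_cancel, h1, one_mul] at this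
    rw [← this]
    simp [mat]

/-- An element of `H` commuting with all root elements is trivial. -/
lemma faithful {h : ↥(D.group F)} (hh : h ∈ (T.rel K).H)
    (hc : ∀ r t, h * (T.rel K).x r t = (T.rel K).x r t * h) : h = 1 := by
  apply mat_inj
  ext a b
  rcases eq_or_ne a b with rfl | hab
  swap
  · have : mat h a b = 0 := (T.shapeR K).diag_of_H hh a b hab
    rw [this]; simp [mat, hab]
  rcases a with i | s
  · rw [T.H_inl K hh]; simp [mat]
  · have hs := T.shape
    simp only [Mat.shapeB, Bool.and_eq_true, List.all_eq_true, decide_eq_true_eq, List.mem_range] at hs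
    have := s.isLt
    let r : Fin T.tab.n := ⟨D.nroots - 1 - s.val, by rw [T.n_eq]; omega⟩
    have hneg : s.val = D.negIdx.getD r.val 0 := by
      rw [(hs.2 r.val (T.lt r)).1.1]; simp only [r]; omega
    have hne : s ≠ ⟨r.val, T.lt r⟩ := fun e => by
      have := congrArg Fin.val e
      simp only [r] at this
      omega
    obtain ⟨⟨-, hprim⟩, -⟩ := hs.2 r.val (T.lt r)
    simp only [Mat.primB, List.any_eq_true, List.mem_range, beq_iff_eq] at hprim
    have hget : ∀ (a : Array ℤ) (k : ℕ), a.getD k 0 = a.toList.getD k 0 := by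
      intro a k
      simp [Array.getD_eq_getD_getElem?, List.getD_eq_getElem?_getD]
    -- some coroot coefficient is non-zero in `F`
    obtain ⟨i, hi⟩ : ∃ i : Fin D.rank, (((D.coroot.getD r.val #[]).getD i.val 0 : ℤ) : F) ≠ 0 := by
      by_contra hcon
      obtain ⟨i, hi, j, hj, hg⟩ := hprim
      have h1 := not_not.1 fun h0 => hcon ⟨⟨i, hi⟩, h0⟩
      have h2 := not_not.1 fun h0 => hcon ⟨⟨j, hj⟩, h0⟩
      simp only [hget] at h1 h2
      set a := (D.coroot.getD r.val #[]).toList.getD i 0
      set b := (D.coroot.getD r.val #[]).toList.getD j 0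
      have hb := Int.gcd_eq_gcd_ab a b
      rw [hg] at hb
      have := congrArg (Int.cast : ℤ → F) hb
      simp [h1, h2] at this
    have e : (mat h * D.x F r.val 1) (Sum.inl i) (Sum.inr s) = (D.x F r.val 1 * mat h) (Sum.inl i) (Sum.inr s) := by
      have := congrArg mat (hc r 1)
      rw [mat_mul, mat_mul] at this
      exact congrFun (congrFun this _) _
    rw [Matrix.mul_apply, Matrix.mul_apply, Finset.sum_eq_single (Sum.inl i : D.Idx),
      Finset.sum_eq_single (Sum.inr s : D.Idx), T.H_inl K hh] at e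
    · have hx : D.x F r.val 1 (Sum.inl i) (Sum.inr s) ≠ 0 := by
        rw [ChevalleyDatum.x, dif_pos (T.lt r)]
        simp only [ChevalleyDatum.xMat, Matrix.of_apply, if_neg hne, if_pos hneg, mul_one]
        exact hi
      have := (mul_right_inj' hx).1 ((mul_one _).trans ((one_mul _).symm.trans e))
      rw [← this]
      simp [mat]
    · intro c _ hcne
      have : mat h c (Sum.inr s) = 0 := (T.shapeR K).diag_of_H hh _ _ hcne
      rw [this, mul_zero]
    · simp
    · intro c _ hcne
      have : mat h (Sum.inl i) c = 0 := (T.shapeR K).diag_of_H hh _ _ hcne.symm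
      rw [this, zero_mul]
    · simp

end Model

end Cfsg.Agent.ChevGroup
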