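import Cfsg.Agent.ChevGroup.Mat.Perfect
import Cfsg.Agent.ChevGroup.Mat.Inst
import Cfsg.Agent.ChevGroup.Mat.B2
import Cfsg.Agent.Lib.ChevCore.CommAll

/-!
Connectedness of the diagram of type B2.
-/

set_option autoImplicit false

namespace Cfsg.Agent.ChevGroup.TypeB2

open Cfsg.Lie

/-- A climbing map for the diagram. -/
def parent (i : Fin 2) : Fin 2 := (![0, 0] : Fin 2 → Fin 2) i

theorem link_ok : model.linkB parent (0 : Fin 2) = true := by decide +kernel

/-- The Chevalley group of type B2 is simple over a field with more than two elements. -/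
theorem isSimple (F : Type*) [Field F] (hF : ∃ a : F, a ≠ 0 ∧ a ≠ 1) :
    IsSimpleGroup ↥(chevB2.group F) ∧ ¬ IsMulCommutative ↥(chevB2.group F) := by
  obtain ⟨a, ha0, ha1⟩ := hF
  set K := relsOfCommGood ChevCore.commGoodB2 F
  have hshort : ∀ t, (model.rel K).x (model.S.simple (0 : Fin 2)) t ∈ commutator ↥(chevB2.group F) := by
    intro t
    refine model.seed_of_pairing K (model.S.simple (1 : Fin 2)) _ ha0 ?_ t
    rw [show chevB2.pairing (model.S.simple (1 : Fin 2)).val (model.S.simple (0 : Fin 2)).val = -1 by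
      decide +kernel, zpow_neg_one]
    exact fun h => ha1 (inv_eq_one.1 h)
  have h7 : ∀ t, (model.rel K).x (7 : Fin 8) t ∈ commutator ↥(chevB2.group F) := by
    intro t
    obtain ⟨g, hg, he⟩ := model.word_mem_commutator K ChevCore.commGoodB2 (5 : Fin 8) (4 : Fin 8)
      (fun e => absurd (congrArg Fin.val e) (by decide +kernel)) (fun e => absurd (congrArg Fin.val e) (by decide +kernel)) 1 (-t)
    have h6 : ∀ u, (model.rel K).x (6 : Fin 8) u ∈ commutator ↥(chevB2.group F) := fun u => by
      have := (model.rel K).x_mem_commutator_conj [(1 : Fin 2)] (model.S.simple (0 : Fin 2)) hshort u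
      rwa [show model.S.actw [(1 : Fin 2)] (model.S.simple (0 : Fin 2)) = (6 : Fin 8) from Fin.ext (by decide +kernel)] at this
    rw [show chevB2.commWord F ((5 : Fin 8) : ℕ) ((4 : Fin 8) : ℕ) 1 (-t) =
        (chevB2.commTerms 5 4).map (fun c => (c.1, (c.2.1 : F) * (-1) ^ c.2.2.1 * (-t) ^ c.2.2.2)) from rfl,
      show chevB2.commTerms 5 4 = [(6, -1, 1, 1), (7, -1, 2, 1)] by decide +kernel] at he
    simp only [List.map_cons, List.map_nil, ChevalleyDatum.wordMat, List.prod_cons, List.prod_nil, mul_one,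
      Int.cast_neg, Int.cast_one, pow_one, even_two.neg_pow, one_pow, neg_mul, one_mul, neg_neg] at he
    have e : g = (model.rel K).x (6 : Fin 8) (-t) * (model.rel K).x (7 : Fin 8) t :=
      Model.mat_inj (he.trans (by rfl))
    rw [e] at hg
    exact (Subgroup.mul_mem_cancel_left _ (h6 _)).1 hg
  refine model.isSimple K wit_ok longest_ok link_ok ?_
  intro i t
  rcases (Fin.exists_fin_two (p := fun j : Fin 2 => j = i)).1 ⟨i, rfl⟩ with rfl | rfl
  · exact hshort t
  · have := (model.rel K).x_mem_commutator_conj [(0 : Fin 2)] (7 : Fin 8) h7 t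
    rwa [show model.S.actw [(0 : Fin 2)] (7 : Fin 8) = model.S.simple (1 : Fin 2) from Fin.ext (by decide +kernel)] at this

end Cfsg.Agent.ChevGroup.TypeB2
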